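import Mathlib

namespace Groth.Agent.H5.SS

open MvPolynomial Matrix

universe u

variable {K : Type u} [Field K] {d n : ℕ}

/-- forward direction: a left inverse gives an invariant polynomial. -/
theorem exists_poly_of_linearIndependent (hd : 0 < d) (A : Matrix (Fin n) (Fin d) K)
    (h : LinearIndependent K A.transpose) :
    ∃ f : MvPolynomial (Fin n × Fin d) K, (∀ g : Matrix.SpecialLinearGroup (Fin d) K,
      MvPolynomial.eval (fun p : Fin n × Fin d => (A * (g : Matrix (Fin d) (Fin d) K)) p.1 p.2) f = 0) ∧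
      MvPolynomial.eval (fun _ : Fin n × Fin d => (0 : K)) f ≠ 0 := by
  have hinj : Function.Injective A.mulVecLin := by
    rw [Matrix.coe_mulVecLin, Matrix.mulVec_injective_iff]
    exact h
  obtain ⟨g', hg'⟩ := LinearMap.exists_leftInverse_of_injective A.mulVecLin
    (LinearMap.ker_eq_bot.mpr hinj)
  let B : Matrix (Fin d) (Fin n) K := LinearMap.toMatrix' g'
  have hBA : B * A = 1 := by
    have : LinearMap.toMatrix' (g' ∘ₗ A.mulVecLin) = 1 := by
      rw [hg']; exact LinearMap.toMatrix'_id
    rw [LinearMap.toMatrix'_comp, ← Matrix.toLin'_apply', LinearMap.toMatrix'_toLin'] at this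
    exact this
  let G : Matrix (Fin d) (Fin d) (MvPolynomial (Fin n × Fin d) K) :=
    Matrix.of fun s t => ∑ k, C (B s k) * X (k, t)
  refine ⟨G.det - 1, ?_, ?_⟩
  · intro g
    rw [map_sub, map_one, RingHom.map_det]
    have : (MvPolynomial.eval (fun p : Fin n × Fin d =>
        (A * (g : Matrix (Fin d) (Fin d) K)) p.1 p.2)).mapMatrix G =
        B * (A * (g : Matrix (Fin d) (Fin d) K)) := by
      refine Matrix.ext fun s t => ?_
      simp [G, Matrix.mul_apply (M := B)]
    rw [this, ← Matrix.mul_assoc, hBA, Matrix.one_mul, g.2, sub_self]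
  · rw [map_sub, map_one, RingHom.map_det]
    have : (MvPolynomial.eval (fun _ : Fin n × Fin d => (0 : K))).mapMatrix G = 0 := by
      refine Matrix.ext fun s t => ?_
      simp [G]
    haveI hne : Nonempty (Fin d) := ⟨⟨0, hd⟩⟩
    rw [this, Matrix.det_zero]
    simp


/-- If `A v = 0` with `v ≠ 0`, then for every `t ≠ 0` there is `g ∈ SL_d` with `A g = t A`. -/
theorem exists_sl_mul_eq_smul (A : Matrix (Fin n) (Fin d) K) (v : Fin d → K) (hv : v ≠ 0)
    (hAv : A *ᵥ v = 0) (t : K) (ht : t ≠ 0) :
    ∃ g : Matrix.SpecialLinearGroup (Fin d) K, A * (g : Matrix (Fin d) (Fin d) K) = t • A := by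
  obtain ⟨i₀, hi₀⟩ : ∃ i₀, v i₀ ≠ 0 := by
    by_contra hcon
    push Not at hcon
    exact hv (funext hcon)
  let h : Matrix (Fin d) (Fin d) K := (1 : Matrix (Fin d) (Fin d) K).updateCol i₀ v
  have hdet : h.det = v i₀ := by
    rw [← Matrix.cramer_apply, Matrix.cramer_one]
    rfl
  have hunit : IsUnit h.det := by rw [hdet]; exact isUnit_iff_ne_zero.mpr hi₀
  have hA₀ : ∀ j, (A * h) j i₀ = 0 := by
    intro j
    have : (A * h) j i₀ = (A *ᵥ v) j := by
      simp [Matrix.mul_apply, Matrix.mulVec, dotProduct, h]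
    rw [this, hAv]; rfl
  let w : Fin d → K := fun k => if k = i₀ then (t ^ (d - 1))⁻¹ else t
  have hw : (∏ k, w k) = 1 := by
    rw [← Finset.mul_prod_erase Finset.univ w (Finset.mem_univ i₀)]
    have : ∀ k ∈ Finset.univ.erase i₀, w k = t := by
      intro k hk
      simp [w, (Finset.mem_erase.mp hk).1]
    rw [Finset.prod_congr rfl this, Finset.prod_const, Finset.card_erase_of_mem (Finset.mem_univ _),
      Finset.card_univ, Fintype.card_fin]
    simp only [w, if_true]
    exact inv_mul_cancel₀ (pow_ne_zero _ ht)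
  have hD : (A * h) * Matrix.diagonal w = t • (A * h) := by
    refine Matrix.ext fun j k => ?_
    rw [Matrix.mul_diagonal, Matrix.smul_apply, smul_eq_mul]
    by_cases hk : k = i₀
    · subst hk; rw [hA₀]; simp
    · simp [w, hk, mul_comm]
  let g : Matrix (Fin d) (Fin d) K := h * Matrix.diagonal w * h⁻¹
  have hg : g.det = 1 := by
    rw [Matrix.det_mul, Matrix.det_mul, Matrix.det_diagonal, hw, mul_one,
      ← Matrix.det_mul, Matrix.mul_nonsing_inv h hunit, Matrix.det_one]
  refine ⟨⟨g, hg⟩, ?_⟩
  change A * (h * Matrix.diagonal w * h⁻¹) = t • A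
  rw [← Matrix.mul_assoc, ← Matrix.mul_assoc, hD, Matrix.smul_mul, Matrix.mul_assoc,
    Matrix.mul_nonsing_inv h hunit, Matrix.mul_one]

theorem linearIndependent_of_exists_poly [Infinite K] (A : Matrix (Fin n) (Fin d) K)
    (f : MvPolynomial (Fin n × Fin d) K)
    (hf : ∀ g : Matrix.SpecialLinearGroup (Fin d) K,
      MvPolynomial.eval (fun p : Fin n × Fin d => (A * (g : Matrix (Fin d) (Fin d) K)) p.1 p.2) f = 0)
    (hf0 : MvPolynomial.eval (fun _ : Fin n × Fin d => (0 : K)) f ≠ 0) :
    LinearIndependent K A.transpose := by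
  by_contra hli
  have hninj : ¬ Function.Injective A.mulVecLin := by
    rw [Matrix.coe_mulVecLin, Matrix.mulVec_injective_iff]
    exact hli
  rw [← LinearMap.ker_eq_bot, Submodule.eq_bot_iff] at hninj
  push Not at hninj
  obtain ⟨v, hv, hv0⟩ := hninj
  have hAv : A *ᵥ v = 0 := hv
  let gX : Fin n × Fin d → Polynomial K := fun p => Polynomial.C (A p.1 p.2) * Polynomial.X
  let P : Polynomial K := MvPolynomial.aeval gX f
  have key : ∀ t : K, P.eval t = MvPolynomial.eval (fun p : Fin n × Fin d => t * A p.1 p.2) f := by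
    intro t
    have : (Polynomial.evalRingHom t).comp (MvPolynomial.aeval gX : _ →ₐ[K] Polynomial K).toRingHom =
        MvPolynomial.eval (fun p : Fin n × Fin d => t * A p.1 p.2) := by
      refine MvPolynomial.ringHom_ext (fun r => by simp) (fun i => ?_)
      simp only [RingHom.comp_apply, AlgHom.toRingHom_eq_coe, RingHom.coe_coe, aeval_X,
        Polynomial.coe_evalRingHom, eval_X, gX, Polynomial.eval_mul, Polynomial.eval_C,
        Polynomial.eval_X]
      ring
    exact RingHom.congr_fun this f
  have hroots : ∀ t : K, t ≠ 0 → P.IsRoot t := by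
    intro t ht
    obtain ⟨g, hg⟩ := exists_sl_mul_eq_smul A v hv0 hAv t ht
    rw [Polynomial.IsRoot, key]
    have := hf g
    rw [hg] at this
    simpa using this
  have hP : P = 0 := by
    apply Polynomial.eq_zero_of_infinite_isRoot
    refine Set.Infinite.mono (s := {0}ᶜ) (fun t ht => hroots t ht) ?_
    exact (Set.finite_singleton (0 : K)).infinite_compl
  apply hf0
  have := key 0
  rw [hP] at this
  simpa using this.symm

theorem main11271 (K : Type u) [Field K] [IsAlgClosed K] (d n : ℕ) (hd : 0 < d)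
    (A : Matrix (Fin n) (Fin d) K) :
    LinearIndependent K A.transpose ↔
      ∃ f : MvPolynomial (Fin n × Fin d) K, (∀ g : Matrix.SpecialLinearGroup (Fin d) K,
        MvPolynomial.eval (fun p : Fin n × Fin d => (A * (g : Matrix (Fin d) (Fin d) K)) p.1 p.2) f = 0) ∧
        MvPolynomial.eval (fun _ : Fin n × Fin d => (0 : K)) f ≠ 0 := by
  haveI : Infinite K := IsAlgClosed.instInfinite
  constructor
  · exact exists_poly_of_linearIndependent hd A
  · rintro ⟨f, hf, hf0⟩
    exact linearIndependent_of_exists_poly A f hf hf0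

end Groth.Agent.H5.SS
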